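import Groth.Agent.Lib.CIProj14.Hyp
import Groth.Agent.Lib.VB17.Pair
import Groth.Agent.Lib.SiteCoh.ExtAdj
import Groth.Agent.Lib.SiteCoh.ModuleExt

/-!
# The obstruction group of a hypersurface in projective space vanishes
-/

universe u

open CategoryTheory CategoryTheory.Limits AlgebraicGeometry TopologicalSpace Opposite

set_option autoImplicit false
set_option linter.style.haveILetI false
set_option linter.unusedSectionVars false
set_option backward.isDefEq.respectTransparency false
set_option backward.isDefEq.respectTransparency.types false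

noncomputable section

namespace Groth.Agent.HypUnobs2

attribute [local instance] MvPolynomial.gradedAlgebra

open Groth.Agent Groth.Agent.M2 Groth.Agent.CurveCoh17

variable {X : Scheme.{u}}

/-- `Ext` out of the structure sheaf vanishes with cohomology. -/
theorem subsingleton_ext_unit [HasExt.{u} X.Modules] (N : X.Modules) (n : ℕ)
    (h : Subsingleton (Coh.HH X N n)) : Subsingleton (Abelian.Ext.{u} (Coh.structureModule X) N n) := by
  haveI : PreservesFiniteColimits (SheafOfModules.toSheaf X.ringCatSheaf) :=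
    haveI : PreservesColimitsOfSize.{u, u} (SheafOfModules.toSheaf X.ringCatSheaf) := ⟨inferInstance⟩
    PreservesColimitsOfSize.preservesFiniteColimits _
  let e : Abelian.Ext.{u} (Coh.structureModule X) N n ≃+ Coh.HH X N n := AddEquiv.ofBijective _
    (SiteCoh.bijective_extCompHom (R := SheafOfModules.toSheaf X.ringCatSheaf)
      (SiteCoh.oneSheafMap X.ringCatSheaf) (SiteCoh.bijective_oneSheafMap X.ringCatSheaf)
      (fun I hI k => SiteCoh.subsingleton_H_of_totallyAcyclic
        (SiteCoh.isTotallyAcyclic_injective X.ringCatSheaf I) k) n N)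
  exact e.toEquiv.subsingleton

/-- `Ext` out of an invertible module is `Ext` out of the structure sheaf into the twist. -/
theorem subsingleton_ext_invertible [HasExt.{u} X.Modules] (L D M : X.Modules) (hL : PicF.IsInvertible L)
    (e : CohB1.tensorMod L D ≅ Coh.structureModule X) (n : ℕ)
    (h : Subsingleton (Coh.HH X (CohB1.tensorMod M D) n)) : Subsingleton (Abelian.Ext.{u} L M n) := by
  let e' : CohB1.tensorMod D L ≅ Coh.structureModule X := tensorComm D L ≪≫ e
  let Φ : X.Modules ≌ X.Modules := CategoryTheory.Equivalence.mk (tensorR L) (tensorR D)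
    (NatIso.ofComponents (fun M => (untwist e M).symm) (fun {M M'} f => by
      show f ≫ (untwist e M').inv = (untwist e M).inv ≫ tensorMap (tensorMap f (𝟙 L)) (𝟙 D)
      rw [Iso.comp_inv_eq, Category.assoc, untwist_natural, Iso.inv_hom_id_assoc]))
    (NatIso.ofComponents (fun M => untwist e' M) (fun {M M'} f => untwist_natural e' f))
  haveI : (tensorR L).IsEquivalence := Φ.isEquivalence_functor
  haveI : (tensorR D).IsEquivalence := Φ.isEquivalence_inverse
  have hR : ∀ I : X.Modules, Injective I → Injective ((tensorR D).obj I) := fun I hI =>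
    Φ.toAdjunction.map_injective I hI
  haveI : Subsingleton (Abelian.Ext.{u} (Coh.structureModule X) (Φ.inverse.obj M) n) :=
    subsingleton_ext_unit (CohB1.tensorMod M D) n h
  haveI : Φ.inverse.Additive := inferInstanceAs (tensorR D).Additive
  haveI : PreservesFiniteLimits Φ.inverse := inferInstanceAs (PreservesFiniteLimits (tensorR D))
  haveI : PreservesFiniteColimits Φ.inverse := inferInstanceAs (PreservesFiniteColimits (tensorR D))
  have h1 : Subsingleton (Abelian.Ext.{u} ((tensorR L).obj (Coh.structureModule X)) M n) :=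
    (SiteCoh.extAdjEquiv Φ.toAdjunction hR (Coh.structureModule X) M n).toEquiv.subsingleton
  let i : (tensorR L).obj (Coh.structureModule X) ≅ L := tensorComm _ L ≪≫ tensorRUnit L
  refine ⟨fun a b => ?_⟩
  have key : ∀ z : Abelian.Ext.{u} L M n, z = 0 := fun z => by
    have hz : (Abelian.Ext.mk₀ i.hom).comp z (zero_add n) = 0 := Subsingleton.elim _ _
    rw [← Abelian.Ext.mk₀_id_comp z, ← i.inv_hom_id, ← Abelian.Ext.mk₀_comp_mk₀,
      Abelian.Ext.comp_assoc _ _ _ (zero_add 0) (zero_add n) (by omega), hz, Abelian.Ext.comp_zero]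
  rw [key a, key b]

variable {k : Type u} [Field k] {n : ℕ}

local notation "O(" i ")" => _root_.Twist.twistProjSpace n k i

/-- The obstruction group of a hypersurface. -/
theorem subsingleton_ext_hyp [HasExt.{u} (CohB1.ProjSpace n k).Modules] {d : ℕ} (G : LefPen.Form n k d)
    (hG : G.1 ≠ 0) :
    Subsingleton (Abelian.Ext.{u} (ClSub.idealMod (LefPen.hypIdeal G)) (ClSub.quotMod (LefPen.hypIdeal G)) 1) := by
  let I := LefPen.hypIdeal G
  obtain ⟨τ⟩ := CIProj14.nonempty_idealMod_hypIdeal G hG
  obtain ⟨μ⟩ := Twist.nonempty_tensor_iso (CohB1.polyGrading n k) (m := -(d : ℤ)) (n := (d : ℤ))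
    (Twist.iSup_basicOpen_one n k)
  obtain ⟨z⟩ := (Twist.nonempty_twist_zero_iso (CohB1.polyGrading n k))
  let e : CohB1.tensorMod (ClSub.idealMod I) O((d : ℤ)) ≅ Coh.structureModule _ :=
    tensorIso τ (Iso.refl _) ≪≫ μ ≪≫ eqToIso (congrArg (fun i => _root_.Twist.twistProjSpace n k i) (neg_add_cancel (d : ℤ))) ≪≫ z
  have hIinv : PicF.IsInvertible (ClSub.idealMod I) :=
    M2.isInvertible_of_iso τ.symm (Twist.isInvertible_twistProjSpace n k _)
  refine subsingleton_ext_invertible _ O((d : ℤ)) _ hIinv e 1 ?_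
  let S₀ : ShortComplex (CohB1.ProjSpace n k).Modules :=
    ShortComplex.mk (ClSub.idealModι I) (ClSub.toSubscheme I) (kernel.condition _)
  have hS := CohFound.shortExact_tensor_invertible (S := S₀) (shortExact_idealMod I)
    (Twist.isInvertible_twistProjSpace n k (d : ℤ))
  rw [CohFound.subsingleton_HH_iff]
  have h2 : Subsingleton (CohFound.Hc ((S₀.map (tensorR O((d : ℤ)))).map (CohFound.abF _)).X₂ 1 ⊤) :=
    CohFound.subsingleton_hc_of_iso (tensorComm (Coh.structureModule _) O((d : ℤ)) ≪≫ tensorRUnit _).symm 1 ⊤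
      (CohFound.ProjNum.subsingleton_hc_Od (n := n) (R := k) (d := (d : ℤ)) 1 one_pos (Or.inl (by omega)))
  have h1 : Subsingleton (CohFound.Hc ((S₀.map (tensorR O((d : ℤ)))).map (CohFound.abF _)).X₁ (1 + 1) ⊤) :=
    CohFound.subsingleton_hc_of_iso (tensorComm (ClSub.idealMod I) O((d : ℤ))).symm 2 ⊤
      ((CohFound.subsingleton_HH_iff _ _).1
        (CIProj14.subsingleton_HH_tensor_idealMod I ⟨τ⟩ (d : ℤ) 2 two_pos (Or.inl (by omega))))
  refine subsingleton_of_forall_eq 0 fun x => ?_
  haveI := h2
  haveI := h1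
  obtain ⟨y, hy⟩ := CohFound.exact₃ (CohFound.shortExact_abF hS) 1 ⊤ x (Subsingleton.elim _ _)
  rw [← hy, Subsingleton.elim y 0, map_zero]

end Groth.Agent.HypUnobs2
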